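import Groth.Agent.SqZeroKoszulLib.Main
import Groth.Agent.RelDivLib.FlatSeq
import Mathlib

/-! Koszul regular sequences modulo a nilpotent ideal of the base. -/

set_option autoImplicit false

universe u

open TensorProduct

namespace Groth.Agent.KoszulLiftLib

variable {A : Type u} [CommRing A] (I : Ideal A)

/-- A submodule with flat quotient is pure with respect to ideals. -/
theorem inf_smul_le_of_flat_quotient {X : Type u} [AddCommGroup X] [Module A X] (N : Submodule A X)
    [Module.Flat A (X ⧸ N)] : N ⊓ I • ⊤ ≤ I • N := by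
  rintro x ⟨hxN, hxI⟩
  rw [SetLike.mem_coe, ← Submodule.span_univ, ← Set.range_id,
    Submodule.mem_ideal_smul_span_iff_exists_sum] at hxI
  obtain ⟨a, ha, rfl⟩ := hxI
  obtain ⟨k, b, y, hy, hb⟩ := Module.Flat.isTrivialRelation_of_sum_smul_eq_zero (R := A) (M := X ⧸ N)
    (f := fun i : a.support => a i.1) (x := fun i : a.support => Submodule.Quotient.mk i.1) (by
      rw [← (Submodule.Quotient.mk_eq_zero N).2 hxN, ← Submodule.mkQ_apply, Finsupp.sum, map_sum,
        ← Finset.sum_attach a.support]
      simp [Finset.univ_eq_attach])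
  choose z hz using fun j => Submodule.Quotient.mk_surjective N (y j)
  have hn : ∀ i : a.support, i.1 - ∑ j, b i j • z j ∈ N := fun i => by
    have h : Submodule.Quotient.mk i.1 = ∑ j, b i j • y j := hy i
    rw [← Submodule.Quotient.mk_eq_zero, ← Submodule.mkQ_apply, map_sub, map_sum]
    simp [hz, h]
  have h0 : ∑ i : a.support, a i.1 • ∑ j, b i j • z j = 0 := by
    simp only [Finset.smul_sum, smul_smul]
    rw [Finset.sum_comm]
    simp only [← Finset.sum_smul, hb, zero_smul, Finset.sum_const_zero]
  have e : a.sum (fun i c => c • _root_.id i) = ∑ i : a.support, a i.1 • (i.1 - ∑ j, b i j • z j) := by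
    simp only [smul_sub, Finset.sum_sub_distrib, h0, sub_zero, Finsupp.sum, id_eq]
    exact (Finset.sum_coe_sort a.support fun i => a i • i).symm
  rw [e]
  exact Submodule.sum_mem _ fun i _ => Submodule.smul_mem_smul (ha _) (hn i)

/-- Nakayama for nilpotent ideals. -/
theorem le_of_le_sup_smul {X : Type u} [AddCommGroup X] [Module A X] (hI : IsNilpotent I)
    {N P : Submodule A X} (h : N ≤ P ⊔ I • N) : N ≤ P := by
  obtain ⟨n, hn⟩ := hI
  have key : ∀ k : ℕ, N ≤ P ⊔ I ^ k • N := by
    intro k
    induction k with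
    | zero => rw [pow_zero, Ideal.one_eq_top, Submodule.top_smul]; exact le_sup_right
    | succ k ih =>
      refine ih.trans (sup_le le_sup_left ?_)
      calc I ^ k • N ≤ I ^ k • (P ⊔ I • N) := Submodule.smul_mono le_rfl h
        _ ≤ P ⊔ I ^ (k + 1) • N := by
          rw [Submodule.smul_sup, pow_succ, Submodule.mul_smul]
          exact sup_le_sup_right Submodule.smul_le_right _
  simpa [hn] using key n

/-- The quotient ideals agree: a flat lift is generated by any lift of generators. -/
theorem eq_of_flat {B : Type u} [CommRing B] [Algebra A B] (hI : IsNilpotent I) (S J' : Ideal B)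
    (hle : S ≤ J') [Module.Flat A (B ⧸ J')] (h : J' ≤ S ⊔ I.map (algebraMap A B)) : J' = S := by
  refine le_antisymm ?_ hle
  haveI : Module.Flat A (B ⧸ J'.restrictScalars A) :=
    Module.Flat.of_linearEquiv (Submodule.Quotient.restrictScalarsEquiv A J')
  refine (Submodule.restrictScalars_le (S := A)).1 (le_of_le_sup_smul I hI fun x hx => ?_)
  obtain ⟨s, hs, v, hv, rfl⟩ := Submodule.mem_sup.1 (h hx)
  refine Submodule.add_mem_sup (S := S.restrictScalars A) (T := I • J'.restrictScalars A) hs
    (inf_smul_le_of_flat_quotient I (J'.restrictScalars A) ⟨(Submodule.add_mem_iff_right _ (hle hs)).1 hx, ?_⟩)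
  rw [Ideal.smul_top_eq_map]
  exact hv

/-- Lifting along a nilpotent ideal. -/
theorem lift : ∀ (n : ℕ) {A B A₀ C : Type u} [CommRing A] [CommRing B] [CommRing A₀] [CommRing C]
    [Algebra A B] [Module.Flat A B] [Algebra A A₀] [Algebra A₀ C] [Algebra A C] [IsScalarTower A A₀ C]
    (I : Ideal A) (_ : I ^ (n + 1) = ⊥) (_ : Function.Surjective (algebraMap A A₀))
    (_ : RingHom.ker (algebraMap A A₀) = I) (π : B →ₐ[A] C) (_ : Function.Surjective π)
    (_ : RingHom.ker π.toRingHom = I.map (algebraMap A B)) (rs : List B)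
    (_ : LCI.IsKoszulRegularSeq C (rs.map π)) (_ : Module.Flat A₀ (C ⧸ Ideal.ofList (rs.map π))),
    LCI.IsKoszulRegularSeq B rs ∧ Module.Flat A (B ⧸ Ideal.ofList rs) := by
  intro n
  induction n with
  | zero =>
    intro A B A₀ C _ _ _ _ _ _ _ _ _ _ I hI hρ hρk π hπ hπk rs hreg hflat
    rw [zero_add, pow_one] at hI
    subst hI
    have hπi : Function.Injective π := (RingHom.injective_iff_ker_eq_bot π.toRingHom).2 (by
      rw [hπk, Ideal.map_bot])
    let e : B ≃ₐ[A] C := AlgEquiv.ofBijective π ⟨hπi, hπ⟩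
    constructor
    · letI : Algebra C B := e.symm.toRingEquiv.toRingHom.toAlgebra
      haveI : Module.Flat C B := RingHom.Flat.of_bijective e.symm.bijective
      have h := RelDivLib.isKoszulRegularSeq_flat (S := B) hreg
      rwa [List.map_map, show (algebraMap C B) ∘ π = _root_.id from funext fun b => e.symm_apply_apply b,
        List.map_id] at h
    · haveI : Module.Flat A A₀ := RingHom.flat_algebraMap_iff.1 (RingHom.Flat.of_bijective
        ⟨(RingHom.injective_iff_ker_eq_bot _).2 hρk, hρ⟩)
      haveI := hflat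
      haveI := Module.Flat.trans A A₀ (C ⧸ Ideal.ofList (rs.map π))
      exact Module.Flat.of_linearEquiv
        (Ideal.quotientEquivAlg (Ideal.ofList rs) (Ideal.ofList (rs.map π)) e
          (Ideal.map_ofList π.toRingHom rs).symm).toLinearEquiv
  | succ n ih =>
    intro A B A₀ C _ _ _ _ _ _ _ _ _ _ I hI hρ hρk π hπ hπk rs hreg hflat
    set J : Ideal A := I ^ (n + 1) with hJdef
    have hJ : J * J = ⊥ := le_bot_iff.1 (by
      rw [← hI, hJdef, ← pow_add]
      exact Ideal.pow_le_pow_right (by omega))
    have hJI : J ≤ I := Ideal.pow_le_self (by omega)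
    have hJB : J.map (algebraMap A B) ≤ RingHom.ker π.toRingHom := hπk ▸ Ideal.map_mono hJI
    haveI := IndLiftLib.flat_quotient_map (Λ := B) J
    let ρ : A ⧸ J →+* A₀ := Ideal.Quotient.lift J (algebraMap A A₀) fun a ha => (hρk.ge (hJI ha) :)
    let π₁ : B ⧸ J.map (algebraMap A B) →+* C :=
      Ideal.Quotient.lift _ π.toRingHom fun b hb => hJB hb
    letI : Algebra (A ⧸ J) A₀ := ρ.toAlgebra
    letI : Algebra (A ⧸ J) C := ((algebraMap A₀ C).comp ρ).toAlgebra
    haveI : IsScalarTower (A ⧸ J) A₀ C := IsScalarTower.of_algebraMap_eq fun _ => rfl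
    let π' : B ⧸ J.map (algebraMap A B) →ₐ[A ⧸ J] C :=
      { π₁ with
        commutes' := fun a => by
          obtain ⟨a, rfl⟩ := Ideal.Quotient.mk_surjective a
          exact (π.commutes a).trans (IsScalarTower.algebraMap_apply A A₀ C a) }
    have hreg' : LCI.IsKoszulRegularSeq C ((rs.map (Ideal.Quotient.mk (J.map (algebraMap A B)))).map π') := by
      rw [List.map_map]; exact hreg
    have hflat' : Module.Flat A₀ (C ⧸ Ideal.ofList ((rs.map (Ideal.Quotient.mk (J.map (algebraMap A B)))).map π')) := by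
      rw [List.map_map]; exact hflat
    have h := ih (A := A ⧸ J) (B := B ⧸ J.map (algebraMap A B)) (A₀ := A₀) (C := C)
      (I.map (Ideal.Quotient.mk J)) ?_ ?_ ?_ π' ?_ ?_ _ hreg' hflat'
    · exact SqZeroKoszulLib.main J hJ rs h.1 h.2
    · rw [← Ideal.map_pow, ← hJdef, Ideal.map_quotient_self]
    · exact Ideal.Quotient.lift_surjective_of_surjective _ _ hρ
    · show RingHom.ker ρ = _
      ext x
      obtain ⟨a, rfl⟩ := Ideal.Quotient.mk_surjective x
      rw [RingHom.mem_ker, Ideal.Quotient.lift_mk, ← RingHom.mem_ker, hρk,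
        ← Ideal.mem_comap, Ideal.comap_map_of_surjective _ Ideal.Quotient.mk_surjective,
        ← RingHom.ker_eq_comap_bot, Ideal.mk_ker, sup_eq_left.2 hJI]
    · exact Ideal.Quotient.lift_surjective_of_surjective _ _ hπ
    · show RingHom.ker π₁ = _
      rw [Ideal.map_map,
        show (algebraMap (A ⧸ J) (B ⧸ J.map (algebraMap A B))).comp (Ideal.Quotient.mk J) =
          (Ideal.Quotient.mk (J.map (algebraMap A B))).comp (algebraMap A B) from RingHom.ext fun a => rfl,
        ← Ideal.map_map, ← hπk]
      ext x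
      obtain ⟨b, rfl⟩ := Ideal.Quotient.mk_surjective x
      rw [RingHom.mem_ker, ← Ideal.mem_comap, Ideal.comap_map_of_surjective _ Ideal.Quotient.mk_surjective,
        ← RingHom.ker_eq_comap_bot, Ideal.mk_ker, sup_eq_left.2 hJB]
      exact Iff.rfl

end Groth.Agent.KoszulLiftLib
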